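import Groth.Agent.DivX.RegMero
import Groth.Agent.MeroX.Basic
import Groth.Agent.QCoh.Extension
import Groth.Agent.ZeroSchX.Basic

/-!
# The ideal of denominators
-/

set_option backward.isDefEq.respectTransparency false
set_option backward.isDefEq.respectTransparency.types false
set_option linter.style.haveILetI false

universe u

open CategoryTheory AlgebraicGeometry TopologicalSpace Opposite

namespace Groth.Agent.DivX

open Groth.Agent Groth.Agent.InvX

variable {X : Scheme.{u}} {L : X.Modules}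

/-- Regular germs do not kill germs of an invertible module. -/
theorem eq_of_smul_eq (hL : PicF.IsInvertible L) (y : X) {t : X.presheaf.stalk y} (ht : t ∈ Mero.regStalk X y)
    {v w : L.presheaf.stalk y} (h : t • v = t • w) : v = w := by
  obtain ⟨U, hy, e, he⟩ := exists_frame hL y
  obtain ⟨c, rfl⟩ := (he.germ_bijective hy).2 v
  obtain ⟨d, rfl⟩ := (he.germ_bijective hy).2 w
  dsimp only at h ⊢
  rw [smul_smul, smul_smul] at h
  rw [(mul_cancel_left_mem_nonZeroDivisors (Mero.regStalk_le_nonZeroDivisors y ht)).1 ((he.germ_bijective hy).1 h)]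

theorem mk_one_inj (hL : PicF.IsInvertible L) (y : X) {v w : L.presheaf.stalk y}
    (h : (LocalizedModule.mk v 1 : Mero.MStalk L y) = LocalizedModule.mk w 1) : v = w := by
  obtain ⟨t, ht⟩ := LocalizedModule.mk_eq.1 h
  simp only [one_smul] at ht
  exact eq_of_smul_eq hL y t.2 ht

variable (s : Γ(Mero.merMod L, ⊤))

theorem mem_denom {U : X.Opens} {r : Γ(X, U)} : r ∈ Mero.denomIdeal L s U ↔ ∃ n : Γ(L, U), ∀ (y : X) (hy : y ∈ U),
    X.presheaf.germ U y hy r • s.1 ⟨y, Opens.mem_top y⟩ = LocalizedModule.mk (L.presheaf.germ U y hy n) 1 :=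
  ⟨fun ⟨n, hn⟩ => ⟨n, fun y hy => hn ⟨y, hy⟩⟩, fun ⟨n, hn⟩ => ⟨n, fun y => hn y.1 y.2⟩⟩

theorem res_mem_denom {U V : X.Opens} (h : V ≤ U) {r : Γ(X, U)} (hr : r ∈ Mero.denomIdeal L s U) :
    X.presheaf.map (homOfLE h).op r ∈ Mero.denomIdeal L s V := by
  obtain ⟨n, hn⟩ := (mem_denom s).1 hr
  refine (mem_denom s).2 ⟨AModX.res L h n, fun y hy => ?_⟩
  rw [X.presheaf.germ_res_apply, hn y (h hy), germ_res']

theorem exists_local_fraction (x : X) {U : X.Opens} (hxU : x ∈ U) :
    ∃ (W : X.Opens) (_ : IsAffineOpen W) (_ : x ∈ W) (_ : W ≤ U) (m : Γ(L, W)) (b : Mero.regSub X W),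
      ∀ (y : X) (hy : y ∈ W), s.1 ⟨y, Opens.mem_top y⟩ =
        LocalizedModule.mk (L.presheaf.germ W y hy m) (Mero.regGerm ⟨y, hy⟩ b) := by
  obtain ⟨V, hxV, i, m, b, w⟩ := s.2 ⟨x, trivial⟩
  obtain ⟨W, hW, hxW, hle⟩ := exists_isAffineOpen_mem_and_subset (x := x) (U := V ⊓ U) ⟨hxV, hxU⟩
  have hWV : W ≤ V := fun z hz => (hle hz).1
  refine ⟨W, hW, hxW, fun z hz => (hle hz).2, AModX.res L hWV m,
    ⟨X.presheaf.map (homOfLE hWV).op b.1, Mero.regSub_res _ b.2⟩, fun y hy => (w ⟨y, hWV hy⟩).trans ?_⟩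
  exact Mero.mk_congr (germ_res' hWV hy m).symm (X.presheaf.germ_res_apply (homOfLE hWV) y hy b.1).symm

/-- Denominators on a basic open come from the affine open, locally. -/
theorem exists_pow_local (hL : PicF.IsInvertible L) {U W : X.Opens} (hW : IsAffineOpen W) (hWU : W ≤ U)
    {m : Γ(L, W)} {b : Mero.regSub X W}
    (hs : ∀ (y : X) (hy : y ∈ W), s.1 ⟨y, Opens.mem_top y⟩ =
      LocalizedModule.mk (L.presheaf.germ W y hy m) (Mero.regGerm ⟨y, hy⟩ b))
    (f c : Γ(X, U)) (n' : Γ(L, X.basicOpen f))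
    (hn : ∀ (y : X) (hy : y ∈ X.basicOpen f),
      X.presheaf.germ U y (X.basicOpen_le f hy) c • s.1 ⟨y, Opens.mem_top y⟩ =
        LocalizedModule.mk (L.presheaf.germ (X.basicOpen f) y hy n') 1) :
    ∃ (N : ℕ) (n : Γ(L, W)), ∀ (y : X) (hy : y ∈ W),
      X.presheaf.germ U y (hWU hy) (f ^ N * c) • s.1 ⟨y, Opens.mem_top y⟩ =
        LocalizedModule.mk (L.presheaf.germ W y hy n) 1 := by
  have hQ : Coh.IsQCoh L := ZeroSchX.isQCoh_inv hL
  let g : Γ(X, W) := X.presheaf.map (homOfLE hWU).op f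
  have hgf : X.basicOpen g ≤ X.basicOpen f := fun z hz => by
    rw [show X.basicOpen g = W ⊓ X.basicOpen f from X.basicOpen_res f (homOfLE hWU).op] at hz
    exact hz.2
  have hgW : X.basicOpen g ≤ W := X.basicOpen_le g
  let c' : Γ(X, W) := X.presheaf.map (homOfLE hWU).op c
  obtain ⟨k, n'', hn''⟩ := QCoh.exists_pow_smul_eq_map hQ hW g (AModX.res L hgf n')
  change AModX.res L hgW n'' = AModX.resR hgW g ^ k • AModX.res L hgf n' at hn''
  have key : AModX.res L hgW (g ^ k • c' • m - b.1 • n'') = 0 := by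
    rw [map_sub, sub_eq_zero]
    refine TopCat.Presheaf.section_ext ⟨L.presheaf, L.isSheaf⟩ _ _ _ fun z hz => ?_
    show L.presheaf.germ _ z hz (AModX.res L hgW (g ^ k • c' • m)) =
      L.presheaf.germ _ z hz (AModX.res L hgW (b.1 • n''))
    simp only [AModX.res_smul, hn'', QCoh.germ_smul', germ_res', germ_resR', map_pow]
    rw [smul_comm (X.presheaf.germ W z (hgW hz) b.1)]
    refine congrArg (_ • ·) ?_
    have h1 := hn z (hgf hz)
    rw [hs z (hgW hz), LocalizedModule.smul'_mk] at h1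
    obtain ⟨t, ht⟩ := LocalizedModule.mk_eq.1 h1
    simp only [one_smul, Submonoid.smul_def] at ht
    refine eq_of_smul_eq hL z t.2 ?_
    rw [show X.presheaf.germ W z (hgW hz) c' = X.presheaf.germ U z (hWU (hgW hz)) c from
      X.presheaf.germ_res_apply _ _ _ _]
    exact ht
  obtain ⟨l, hl⟩ := QCoh.exists_pow_smul_eq_zero hQ hW g _ key
  refine ⟨l + k, g ^ l • n'', fun y hy => ?_⟩
  rw [smul_sub, sub_eq_zero] at hl
  have h2 := congrArg (L.presheaf.germ W y hy) hl
  simp only [QCoh.germ_smul', map_pow] at h2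
  rw [hs y hy, LocalizedModule.smul'_mk]
  refine LocalizedModule.mk_eq.2 ⟨1, ?_⟩
  simp only [one_smul, Submonoid.smul_def, QCoh.germ_smul', map_pow]
  have hfg : X.presheaf.germ W y hy g = X.presheaf.germ U y (hWU hy) f := X.presheaf.germ_res_apply _ _ _ _
  have hcc : X.presheaf.germ W y hy c' = X.presheaf.germ U y (hWU hy) c := X.presheaf.germ_res_apply _ _ _ _
  rw [hfg, hcc] at h2
  rw [map_mul, map_pow, pow_add, hfg, smul_comm]
  simp only [mul_smul] at h2 ⊢
  rw [h2, smul_comm]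

/-- The ideals of denominators on affine opens form an ideal sheaf. -/
theorem denom_map_basicOpen (hL : PicF.IsInvertible L) (U : X.affineOpens) (f : Γ(X, U.1)) :
    (Mero.denomIdeal L s U.1).map (X.presheaf.map (homOfLE <| X.basicOpen_le f).op).hom =
      Mero.denomIdeal L s (X.basicOpen f) := by
  classical
  refine le_antisymm (Ideal.map_le_iff_le_comap.2 fun r hr => res_mem_denom s _ hr) fun ρ hρ => ?_
  haveI := U.2.isLocalization_basicOpen f
  obtain ⟨⟨c, ⟨fn, n, hfn⟩⟩, hρc⟩ := IsLocalization.surj (Submonoid.powers f) ρ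
  let j := (X.presheaf.map (homOfLE <| X.basicOpen_le f).op).hom
  have hρc' : ρ * j fn = j c := hρc
  have hc : j c ∈ Mero.denomIdeal L s (X.basicOpen f) := hρc' ▸ Ideal.mul_mem_right _ _ hρ
  obtain ⟨n', hn'⟩ := (mem_denom s).1 hc
  have hn : ∀ (y : X) (hy : y ∈ X.basicOpen f),
      X.presheaf.germ U.1 y (X.basicOpen_le f hy) c • s.1 ⟨y, Opens.mem_top y⟩ =
        LocalizedModule.mk (L.presheaf.germ (X.basicOpen f) y hy n') 1 := fun y hy => by
    rw [← hn' y hy]
    exact congrArg (· • _) (X.presheaf.germ_res_apply _ _ _ _).symm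
  choose W hW hxW hWU m b hs using fun x : U.1 => exists_local_fraction s x.1 x.2
  choose N nn hnn using fun x : U.1 => exists_pow_local s hL (hW x) (hWU x) (hs x) f c n' hn
  obtain ⟨t, ht⟩ := U.2.isCompact.elim_finite_subcover (fun x : U.1 => (W x : Set X)) (fun x => (W x).2)
    fun z hz => Set.mem_iUnion.2 ⟨⟨z, hz⟩, hxW _⟩
  let M := t.sup N
  let nW : ∀ x : {x // x ∈ t}, Γ(L, W x.1) := fun x =>
    X.presheaf.map (homOfLE (hWU x.1)).op f ^ (M - N x.1) • nn x.1
  have hnW : ∀ (x : {x // x ∈ t}) (y : X) (hy : y ∈ W x.1),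
      X.presheaf.germ U.1 y (hWU x.1 hy) (f ^ M * c) • s.1 ⟨y, Opens.mem_top y⟩ =
        LocalizedModule.mk (L.presheaf.germ (W x.1) y hy (nW x)) 1 := fun x y hy => by
    rw [QCoh.germ_smul', map_pow, X.presheaf.germ_res_apply, ← LocalizedModule.smul'_mk, ← hnn x.1 y hy,
      ← mul_smul, ← map_pow, ← map_mul, ← mul_assoc, ← pow_add,
      Nat.sub_add_cancel (Finset.le_sup (f := N) x.2)]
  obtain ⟨r, hr, -⟩ := AModX.existsUnique_glue (M := L) (V := U.1) (fun x : {x // x ∈ t} => W x.1)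
    (fun x => hWU x.1) (fun z hz => by
      obtain ⟨x, hx, hzx⟩ := Set.mem_iUnion₂.1 (ht hz)
      exact ⟨⟨x, hx⟩, hzx⟩) nW fun x x' => by
      refine TopCat.Presheaf.section_ext ⟨L.presheaf, L.isSheaf⟩ _ _ _ fun z hz => ?_
      show L.presheaf.germ _ z hz (AModX.res L inf_le_left (nW x)) =
        L.presheaf.germ _ z hz (AModX.res L inf_le_right (nW x'))
      rw [germ_res', germ_res']
      exact mk_one_inj hL z ((hnW x z hz.1).symm.trans (hnW x' z hz.2))
  have hmem : f ^ M * c ∈ Mero.denomIdeal L s U.1 := (mem_denom s).2 ⟨r, fun y hy => by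
    obtain ⟨x, hx, hyx⟩ := Set.mem_iUnion₂.1 (ht hy)
    rw [hnW ⟨x, hx⟩ y hyx, ← hr ⟨x, hx⟩, germ_res']⟩
  have hu : IsUnit (j (f ^ M * fn)) := by
    rw [← hfn]
    change IsUnit (algebraMap Γ(X, U.1) Γ(X, X.basicOpen f) (f ^ M * f ^ n))
    rw [← pow_add]
    exact IsLocalization.map_units (M := Submonoid.powers f) Γ(X, X.basicOpen f) ⟨_, M + n, rfl⟩
  obtain ⟨v, hv⟩ := hu.exists_right_inv
  have he : ρ = j (f ^ M * c) * v := by
    rw [map_mul, ← hρc']
    rw [map_mul] at hv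
    linear_combination (-ρ) * hv
  rw [he]
  exact Ideal.mul_mem_right _ _ (Ideal.mem_map_of_mem _ hmem)

/-- The ideal sheaf of denominators. -/
noncomputable def denomSheaf (hL : PicF.IsInvertible L) : X.IdealSheafData where
  ideal U := Mero.denomIdeal L s U.1
  map_ideal_basicOpen U f := denom_map_basicOpen s hL U f

theorem interior_support_denomSheaf (hL : PicF.IsInvertible L) :
    interior ((denomSheaf s hL).support : Set X) = ∅ := by
  refine Set.eq_empty_iff_forall_notMem.2 fun x hx => ?_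
  obtain ⟨W, hW, hxW, hWI, m, b, hs⟩ := exists_local_fraction s x (U := ⟨_, isOpen_interior⟩) hx
  have hb : b.1 ∈ Mero.denomIdeal L s W := (mem_denom s).2 ⟨m, fun y hy => by
    rw [hs y hy, LocalizedModule.smul'_mk]
    refine LocalizedModule.mk_eq.2 ⟨1, ?_⟩
    simp [Submonoid.smul_def]⟩
  have hbot : X.basicOpen b.1 = ⊥ := eq_bot_iff.2 fun z hz => by
    have hzW : z ∈ W := X.basicOpen_le b.1 hz
    have h1 : z ∈ ((denomSheaf s hL).support : Set X) := interior_subset (hWI hzW)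
    have h2 := Set.mem_iInter.1 (show z ∈ (denomSheaf s hL).supportSet from h1) ⟨W, hW⟩
    exact absurd hz ((X.mem_zeroLocus_iff _ _).1 h2 b.1 hb)
  obtain ⟨k, hk⟩ := (Scheme.isNilpotent_iff_basicOpen_eq_bot_of_isCompact hW.isCompact b.1).2 hbot
  have h0 := congrArg (X.presheaf.germ W x hxW) hk
  rw [map_pow, map_zero] at h0
  exact zero_notMem_nonZeroDivisors (h0 ▸ pow_mem (Mero.regStalk_le_nonZeroDivisors x (Mero.regGerm ⟨x, hxW⟩ b).2) k)

end Groth.Agent.DivX
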