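import Groth.Agent.DivX.RegMeroExist
import Groth.Agent.AssPtX.Regular

/-!
# Extending functions to meromorphic functions
-/

set_option backward.isDefEq.respectTransparency false
set_option backward.isDefEq.respectTransparency.types false
set_option linter.style.haveILetI false

universe u

open CategoryTheory AlgebraicGeometry TopologicalSpace Opposite

namespace Groth.Agent.DivX

open Groth.Agent

variable {X : Scheme.{u}}

/-- A function near the weakly associated points of an affine open is a fraction. -/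
theorem exists_fraction_ext {U : X.Opens} (hU : IsAffineOpen U)
    (hfin : {y : X | y ∈ U ∧ Curv2.IsWeakAssPoint (Coh.structureModule X) y}.Finite) (V0 : X.Opens)
    (hV0 : ∀ y ∈ U, Curv2.IsWeakAssPoint (Coh.structureModule X) y → y ∈ V0) (g : Γ(X, V0)) :
    ∃ (c : Γ(X, U)) (b : Mero.regSub X U) (D : X.Opens) (hD : D ≤ U ⊓ V0),
      (∀ y ∈ U, Curv2.IsWeakAssPoint (Coh.structureModule X) y → y ∈ D) ∧
      ∀ (y : X) (hy : y ∈ D), (LocalizedModule.mk (X.presheaf.germ U y (hD hy).1 c)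
          (Mero.regGerm ⟨y, (hD hy).1⟩ b) : Mero.KStalk X y) =
        algebraMap (X.presheaf.stalk y) (Mero.KStalk X y) (X.presheaf.germ V0 y (hD hy).2 g) := by
  classical
  let S := {y : X | y ∈ U ∧ Curv2.IsWeakAssPoint (Coh.structureModule X) y}
  haveI : Finite S := hfin
  haveI : Fintype S := Fintype.ofFinite S
  let I : Ideal Γ(X, U) := ⨅ z : {z : U // z.1 ∉ V0}, (hU.primeIdealOf z.1).asIdeal
  have hI : ∀ a, a ∈ I → X.basicOpen a ≤ V0 := fun a ha z hz => by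
    by_contra hz0
    exact (QCoh.mem_basicOpen_iff_notMem hU (X.basicOpen_le a hz) a).1 hz
      (Ideal.mem_iInf.1 ha ⟨⟨z, X.basicOpen_le a hz⟩, hz0⟩)
  obtain ⟨a, haI, ha⟩ : ∃ a ∈ I, ∀ y : S, a ∉ (hU.primeIdealOf ⟨y.1, y.2.1⟩).asIdeal := by
    have hnot : ¬ ((I : Set Γ(X, U)) ⊆ ⋃ y ∈ (↑(Finset.univ : Finset S) : Set S),
        (hU.primeIdealOf ⟨(y : S).1, y.2.1⟩).asIdeal) := fun hsub => by
      rcases isEmpty_or_nonempty S with hS | ⟨⟨s₀⟩⟩
      · have := hsub (zero_mem I)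
        simp at this
      obtain ⟨y, -, hy⟩ := (Ideal.subset_union_prime s₀ s₀ fun i _ _ _ =>
        (hU.primeIdealOf ⟨i.1, i.2.1⟩).isPrime).1 hsub
      obtain ⟨c, hc, hyc⟩ := hU.exists_basicOpen_le (V := V0) ⟨y.1, hV0 y.1 y.2.1 y.2.2⟩ y.2.1
      refine (QCoh.mem_basicOpen_iff_notMem hU y.2.1 c).1 hyc (hy (Ideal.mem_iInf.2 fun z => ?_))
      by_contra hcz
      exact z.2 (hc ((QCoh.mem_basicOpen_iff_notMem hU z.1.2 c).2 hcz))
    obtain ⟨a, ha, ha'⟩ := Set.not_subset.1 hnot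
    exact ⟨a, ha, fun y hy => ha' (Set.mem_iUnion₂.2 ⟨y, by simp, hy⟩)⟩
  let D := X.basicOpen a
  have hDU : D ≤ U := X.basicOpen_le a
  have hD0 : D ≤ V0 := hI a haI
  have hS : ∀ y ∈ U, Curv2.IsWeakAssPoint (Coh.structureModule X) y → y ∈ D := fun y hy hya =>
    (QCoh.mem_basicOpen_iff_notMem hU hy a).2 (ha ⟨y, hy, hya⟩)
  have hareg : a ∈ Mero.regSub X U := AssPtX.germ_mem_nonZeroDivisors_of_weakAss a fun z hz hza =>
    (X.mem_basicOpen a z hz).1 (hS z hz hza)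
  haveI := hU.isLocalization_basicOpen a
  obtain ⟨⟨c, ⟨an, n, hn⟩⟩, hgc⟩ :=
    IsLocalization.surj (Submonoid.powers a) (X.presheaf.map (homOfLE hD0).op g)
  have hanreg : an ∈ Mero.regSub X U := by rw [← hn]; exact pow_mem hareg n
  refine ⟨c, ⟨an, hanreg⟩, D, le_inf hDU hD0, hS, fun y hy => ?_⟩
  rw [algebraMap_mul']
  refine LocalizedModule.mk_eq.2 ⟨1, ?_⟩
  have hgc' : X.presheaf.map (homOfLE hD0).op g * X.presheaf.map (homOfLE hDU).op an =
      X.presheaf.map (homOfLE hDU).op c := hgc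
  have h1 := congrArg (X.presheaf.germ D y hy) hgc'
  rw [map_mul, X.presheaf.germ_res_apply, X.presheaf.germ_res_apply, X.presheaf.germ_res_apply] at h1
  simp only [one_smul, Submonoid.smul_def, smul_eq_mul]
  rw [← h1, mul_comm]

/-- Meromorphic functions agreeing at the weakly associated points agree. -/
theorem kmod_ext {U : X.Opens} (t t' : Γ(Mero.kmod X, U)) (Z : X.Opens)
    (hZ : ∀ y ∈ U, Curv2.IsWeakAssPoint (Coh.structureModule X) y → y ∈ Z)
    (h : ∀ y : U, y.1 ∈ Z → t.1 y = t'.1 y) : t = t' := by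
  refine sub_eq_zero.1 (Subtype.ext (funext fun y => ?_))
  exact kmod_eq_zero (t - t') Z hZ (fun z hz => by
    show t.1 z + -(t'.1 z) = 0
    exact (sub_eq_add_neg (t.1 z) (t'.1 z)).symm.trans (sub_eq_zero.2 (h z hz))) y

/-- A section of the meromorphic functions extending a function given near the weakly associated points. -/
theorem exists_ext {U V : X.Opens} (hVU : V ≤ U)
    (hfin : ∀ x ∈ U, ∃ W : X.Opens, x ∈ W ∧
      {y : X | y ∈ W ∧ Curv2.IsWeakAssPoint (Coh.structureModule X) y}.Finite)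
    (hV : ∀ y ∈ U, Curv2.IsWeakAssPoint (Coh.structureModule X) y → y ∈ V) (g : Γ(X, V)) :
    ∃ s : Γ(Mero.kmod X, U), kRes hVU s = Mero.toK X V g := by
  have main : ∀ x : U, ∃ (W : X.Opens) (_ : x.1 ∈ W) (hW : W ≤ U) (f : Γ(Mero.kmod X, W)) (D : X.Opens)
      (hD : D ≤ W ⊓ V), (∀ y ∈ W, Curv2.IsWeakAssPoint (Coh.structureModule X) y → y ∈ D) ∧
      ∀ (y : X) (hy : y ∈ D), f.1 ⟨y, (hD hy).1⟩ = (Mero.toK X V g).1 ⟨y, (hD hy).2⟩ := by
    intro x
    obtain ⟨W₀, hxW₀, hW₀⟩ := hfin x.1 x.2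
    obtain ⟨W, hW, hxW, hWle⟩ := exists_isAffineOpen_mem_and_subset (x := x.1) (U := W₀ ⊓ U) ⟨hxW₀, x.2⟩
    obtain ⟨c, b, D, hD, hS, hval⟩ := exists_fraction_ext hW
      (hW₀.subset fun z hz => ⟨(hWle hz.1).1, hz.2⟩) V (fun y hy => hV y (hWle hy).2) g
    exact ⟨W, hxW, fun z hz => (hWle hz).2,
      ⟨fun y => LocalizedModule.mk (X.presheaf.germ W y.1 y.2 c) (Mero.regGerm y b),
        fun y => ⟨W, y.2, 𝟙 _, c, b, fun z => rfl⟩⟩, D, hD, hS, hval⟩
  choose W hxW hWU f D hD hS hval using main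
  have hcompat : ∀ (x x' : U) (y : X) (hy : y ∈ W x) (hy' : y ∈ W x'),
      (f x).1 ⟨y, hy⟩ = (f x').1 ⟨y, hy'⟩ := by
    intro x x' y hy hy'
    exact congrArg (fun t : Γ(Mero.kmod X, W x ⊓ W x') => t.1 ⟨y, hy, hy'⟩)
      (kmod_ext (kRes (inf_le_left : W x ⊓ W x' ≤ W x) (f x)) (kRes (inf_le_right : W x ⊓ W x' ≤ W x') (f x'))
        (D x ⊓ D x') (fun z hz hza => ⟨hS x z hz.1 hza, hS x' z hz.2 hza⟩)
        fun z hz => (hval x z.1 hz.1).trans (hval x' z.1 hz.2).symm)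
  let s : Γ(Mero.kmod X, U) := ⟨fun y => (f y).1 ⟨y.1, hxW y⟩, fun y => by
    obtain ⟨W', hyW', i, a, b, w⟩ := (f y).2 ⟨y.1, hxW y⟩
    refine ⟨W', hyW', i ≫ homOfLE (hWU y), a, b, fun z => ?_⟩
    exact (hcompat ⟨z.1, hWU y (i.le z.2)⟩ y z.1 (hxW _) (i.le z.2)).trans (w z)⟩
  refine ⟨s, Subtype.ext (funext fun y => ?_)⟩
  show (f ⟨y.1, hVU y.2⟩).1 ⟨y.1, hxW _⟩ = (Mero.toK X V g).1 y
  let x : U := ⟨y.1, hVU y.2⟩
  exact congrArg (fun t : Γ(Mero.kmod X, W x ⊓ V) => t.1 ⟨y.1, hxW x, y.2⟩)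
    (kmod_ext (kRes (inf_le_left : W x ⊓ V ≤ W x) (f x))
      (kRes (inf_le_right : W x ⊓ V ≤ V) (Mero.toK X V g)) (D x)
      (fun z hz hza => hS x z hz.1 hza) fun z hz => hval x z.1 hz)

/-- A schematically dense open contains the weakly associated points when these are locally finite. -/
theorem mem_of_dense {U V : X.Opens}
    (hV : ∀ W : X.Opens, W ≤ U → Function.Injective ⇑(X.presheaf.map (homOfLE (inf_le_left : W ⊓ V ≤ W)).op))
    {y : X} (hy : y ∈ U) (hya : Curv2.IsWeakAssPoint (Coh.structureModule X) y) {N : X.Opens} (hyN : y ∈ N)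
    (hfin : {z : X | z ∈ N ∧ Curv2.IsWeakAssPoint (Coh.structureModule X) z}.Finite) : y ∈ V := by
  by_contra hyV
  obtain ⟨W, hW, hyW, hWle⟩ := exists_isAffineOpen_mem_and_subset (x := y) (U := U ⊓ N) ⟨hy, hyN⟩
  have hWU : W ≤ U := fun z hz => (hWle hz).1
  obtain ⟨t, ht⟩ := WeakAss.mem_weakAss_iff.1
    ((AssPtX.isWeakAssPoint_iff_sections QCoh.isQCoh_structureModule hW hyW).1 hya)
  let T := {z : X | (z ∈ N ∧ Curv2.IsWeakAssPoint (Coh.structureModule X) z) ∧ ¬ z ⤳ y}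
  have hT : IsClosed (⋃ z ∈ T, closure ({z} : Set X)) :=
    (hfin.subset fun z hz => hz.1).isClosed_biUnion fun _ _ => isClosed_closure
  let W' : X.Opens := W ⊓ ⟨(⋃ z ∈ T, closure ({z} : Set X))ᶜ, hT.isOpen_compl⟩
  have hyW' : y ∈ W' := ⟨hyW, fun h => by
    obtain ⟨z, hz, hzy⟩ := Set.mem_iUnion₂.1 h
    exact hz.2 (specializes_iff_mem_closure.2 hzy)⟩
  have hW'W : W' ≤ W := inf_le_left
  let F := Coh.structureModule X
  have hz0 : (F.presheaf.map (homOfLE ((inf_le_left : W' ⊓ V ≤ W').trans hW'W)).op t) = 0 := by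
    refine AssPtX.eq_zero_of_germ QCoh.isQCoh_structureModule _ fun z hz hza => ?_
    rw [TopCat.Presheaf.germ_res_apply]
    have hzW : z ∈ W := hW'W hz.1
    by_contra hne
    have hann : WeakAss.annEl Γ(X, W) t ≤ (hW.primeIdealOf ⟨z, hzW⟩).asIdeal := fun r hr => by
      by_contra hr'
      refine hne ?_
      have h2 : r • t = 0 := WeakAss.mem_annEl.1 hr
      have h3 := congrArg (F.presheaf.germ W z hzW) h2
      rw [QCoh.germ_smul', map_zero] at h3
      exact ((X.mem_basicOpen r z hzW).1 ((QCoh.mem_basicOpen_iff_notMem hW hzW r).2 hr')).smul_eq_zero.1 h3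
    have hzy : z ⤳ y := by
      by_contra hzy
      exact hz.1.2 (Set.mem_biUnion ⟨⟨(hWle hzW).2, hza⟩, hzy⟩ (subset_closure rfl))
    have hle := (AssPtX.primeIdealOf_le_iff hW hzW hyW).2 hzy
    have hyz := (AssPtX.primeIdealOf_le_iff hW hyW hzW).1
      (ht.2 ⟨(hW.primeIdealOf ⟨z, hzW⟩).isPrime, hann⟩ hle)
    exact hyV ((hyz.antisymm hzy).eq ▸ hz.2)
  have h0 : F.presheaf.map (homOfLE hW'W).op t = 0 := by
    refine hV W' (hW'W.trans hWU) ?_
    show F.presheaf.map (homOfLE (inf_le_left : W' ⊓ V ≤ W')).op (F.presheaf.map (homOfLE hW'W).op t) =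
      X.presheaf.map (homOfLE (inf_le_left : W' ⊓ V ≤ W')).op 0
    rw [map_zero, QCoh.map_map]
    exact hz0
  have h1 := congrArg (F.presheaf.germ W' y hyW') h0
  rw [TopCat.Presheaf.germ_res_apply, map_zero] at h1
  obtain ⟨f, hyf, hf⟩ := (QCoh.germ_eq_zero_iff QCoh.isQCoh_structureModule hW hyW t).1 h1
  exact (QCoh.mem_basicOpen_iff_notMem hW hyW f).1 hyf (ht.1.2 (WeakAss.mem_annEl.2 hf))

/-- Local finiteness of weakly associated points from locally finitely many components, reduced case. -/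
theorem finite_weakAss_of_components [IsReduced X] (x : X)
    (h : ∃ W : X.Opens, x ∈ W ∧
      {Z : Set X | Z ∈ irreducibleComponents X ∧ (Z ∩ (W : Set X)).Nonempty}.Finite) :
    ∃ W : X.Opens, x ∈ W ∧ {y : X | y ∈ W ∧ Curv2.IsWeakAssPoint (Coh.structureModule X) y}.Finite := by
  obtain ⟨W, hxW, hfin⟩ := h
  refine ⟨W, hxW, Set.Finite.of_finite_image (f := fun y => closure ({y} : Set X)) (hfin.subset ?_)
    fun a _ b _ hab => IsGenericPoint.eq (S := closure {a}) rfl (Eq.symm hab)⟩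
  rintro T ⟨y, ⟨hy, hya⟩, rfl⟩
  refine ⟨⟨isIrreducible_singleton.closure, fun T hT hsub => ?_⟩, y, subset_closure rfl, hy⟩
  have hgp := hT.isGenericPoint_genericPoint_closure
  rw [(AssPtX.isWeakAssPoint_structureModule_iff QCoh.isQCoh_structureModule y).1 hya _
    (hgp.specializes (subset_closure (hsub (subset_closure rfl))))] at hgp
  exact subset_closure.trans_eq hgp.def.symm

/-- A nonzerodivisor germ is the germ of a regular section when the weakly associated points are maximal. -/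
theorem regStalk_eq_of_maximal
    (ha : ∀ x : X, Curv2.IsWeakAssPoint (Coh.structureModule X) x → ∀ y : X, y ⤳ x → y = x)
    (hfin : ∀ x : X, ∃ W : X.Opens, x ∈ W ∧
      {y : X | y ∈ W ∧ Curv2.IsWeakAssPoint (Coh.structureModule X) y}.Finite) (x : X) :
    Mero.regStalk X x = nonZeroDivisors (X.presheaf.stalk x) := by
  refine le_antisymm (Mero.regStalk_le_nonZeroDivisors x) fun g hg => ?_
  obtain ⟨O, hxO, r₀, rfl⟩ := X.presheaf.exists_germ_eq (x := x) g
  obtain ⟨N, hxN, hN⟩ := hfin x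
  obtain ⟨V, hV, hxV, hVle⟩ := exists_isAffineOpen_mem_and_subset (x := x) (U := O ⊓ N) ⟨hxO, hxN⟩
  have hVO : V ≤ O := fun z hz => (hVle hz).1
  let r := X.presheaf.map (homOfLE hVO).op r₀
  have hrg : X.presheaf.germ V x hxV r = X.presheaf.germ O x hxO r₀ := X.presheaf.germ_res_apply _ _ _ _
  rw [← hrg] at hg ⊢
  let T := {z : X | (z ∈ N ∧ Curv2.IsWeakAssPoint (Coh.structureModule X) z) ∧ ¬ z ⤳ x}
  have hT : IsClosed (⋃ z ∈ T, closure ({z} : Set X)) :=
    (hN.subset fun z hz => hz.1).isClosed_biUnion fun _ _ => isClosed_closure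
  let W : X.Opens := V ⊓ ⟨(⋃ z ∈ T, closure ({z} : Set X))ᶜ, hT.isOpen_compl⟩
  have hxW : x ∈ W := ⟨hxV, fun h => by
    obtain ⟨z, hz, hzx⟩ := Set.mem_iUnion₂.1 h
    exact hz.2 (specializes_iff_mem_closure.2 hzx)⟩
  refine ⟨W, hxW, X.presheaf.map (homOfLE (inf_le_left : W ≤ V)).op r,
    AssPtX.germ_mem_nonZeroDivisors_of_weakAss _ fun z hz hza => ?_, X.presheaf.germ_res_apply _ _ _ _⟩
  rw [X.presheaf.germ_res_apply]
  have hzV : z ∈ V := hz.1
  have hzx : z ⤳ x := by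
    by_contra hzx
    exact hz.2 (Set.mem_biUnion ⟨⟨(hVle hzV).2, hza⟩, hzx⟩ (subset_closure rfl))
  by_contra hru
  letI := QCoh.stalkAlg (X := X) hzV
  haveI := QCoh.isLocalization_stalk' hV hzV
  have hnil : IsNilpotent (X.presheaf.germ V z hzV r) := by
    rw [← mem_nilradical, nilradical_eq_sInf, Submodule.mem_sInf]
    intro (q : Ideal (X.presheaf.stalk z)) (hq : q.IsPrime)
    obtain ⟨w, hw, hwq⟩ := QCoh.exists_point hV ⟨Ideal.comap (algebraMap Γ(X, V) (X.presheaf.stalk z)) q,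
      Ideal.IsPrime.comap _⟩
    have hwle : (hV.primeIdealOf ⟨w, hw⟩).asIdeal ≤ (hV.primeIdealOf ⟨z, hzV⟩).asIdeal := by
      rw [hwq, ← IsLocalization.AtPrime.comap_maximalIdeal (X.presheaf.stalk z) (hV.primeIdealOf ⟨z, hzV⟩).asIdeal]
      exact Ideal.comap_mono (IsLocalRing.le_maximalIdeal hq.ne_top)
    have hwz := ha z hza w ((AssPtX.primeIdealOf_le_iff hV hw hzV).1 hwle)
    subst hwz
    have hmem : r ∈ (hV.primeIdealOf ⟨w, hw⟩).asIdeal := by
      by_contra h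
      exact hru ((X.mem_basicOpen r w hw).1 ((QCoh.mem_basicOpen_iff_notMem hV hw r).2 h))
    rw [hwq] at hmem
    exact hmem
  obtain ⟨n, hn⟩ := hnil
  have hn' : algebraMap Γ(X, V) (X.presheaf.stalk z) (r ^ n) = 0 := (map_pow _ _ _).trans hn
  obtain ⟨⟨c, hc⟩, hcr⟩ :=
    (IsLocalization.map_eq_zero_iff (hV.primeIdealOf ⟨z, hzV⟩).asIdeal.primeCompl _ _).1 hn'
  have h0 : X.presheaf.germ V x hxV c = 0 := by
    refine mem_nonZeroDivisors_iff_right.1 (pow_mem hg n) _ ?_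
    rw [← map_pow, ← map_mul, hcr, map_zero]
  letI := QCoh.stalkAlg (X := X) hxV
  haveI := QCoh.isLocalization_stalk' hV hxV
  obtain ⟨⟨e, he⟩, hec⟩ :=
    (IsLocalization.map_eq_zero_iff (hV.primeIdealOf ⟨x, hxV⟩).asIdeal.primeCompl (X.presheaf.stalk x) c).1 h0
  have hez : e ∉ (hV.primeIdealOf ⟨z, hzV⟩).asIdeal := fun h =>
    he ((AssPtX.primeIdealOf_le_iff hV hzV hxV).2 hzx h)
  exact ((hV.primeIdealOf ⟨z, hzV⟩).isPrime.mul_notMem hez hc)
    (by rw [show e * c = 0 from hec]; exact zero_mem _)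

/-- A nonzerodivisor at a weakly associated point is a unit. -/
theorem isUnit_of_weakAss {y : X} (hy : Curv2.IsWeakAssPoint (Coh.structureModule X) y)
    {g : X.presheaf.stalk y} (hg : g ∈ nonZeroDivisors (X.presheaf.stalk y)) : IsUnit g := by
  obtain ⟨V, hV, hyV, -⟩ := exists_isAffineOpen_mem_and_subset (x := y) (U := ⊤) trivial
  letI := QCoh.stalkAlg (X := X) hyV
  haveI := QCoh.isLocalization_stalk' hV hyV
  haveI : IsLocalizedModule (hV.primeIdealOf ⟨y, hyV⟩).asIdeal.primeCompl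
      (Algebra.linearMap Γ(X, V) (X.presheaf.stalk y)) := inferInstance
  have h1 := WeakAss.mem_weakAss_iff_map (hV.primeIdealOf ⟨y, hyV⟩).asIdeal.primeCompl
    (R' := X.presheaf.stalk y) (Algebra.linearMap Γ(X, V) (X.presheaf.stalk y))
    (p := (hV.primeIdealOf ⟨y, hyV⟩).asIdeal) (Set.disjoint_left.2 fun _ h h' => h h')
  rw [IsLocalization.AtPrime.map_eq_maximalIdeal] at h1
  rw [AssPtX.isWeakAssPoint_iff_sections QCoh.isQCoh_structureModule hV hyV] at hy
  obtain ⟨m, hm⟩ := WeakAss.mem_weakAss_iff.1 (h1.1 hy)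
  by_contra hgu
  obtain ⟨n, hn⟩ := ((AssPtX.radical_eq_maximalIdeal_iff _).2 hm).ge ((IsLocalRing.mem_maximalIdeal g).2 hgu)
  have h2 : g ^ n • m = 0 := WeakAss.mem_annEl.1 hn
  have h3 : m = 0 := mem_nonZeroDivisors_iff_right.1 (pow_mem hg n) m ((mul_comm _ _).trans h2)
  refine hm.1.1.ne_top (top_unique fun r _ => hm.1.2 ?_)
  rw [h3]
  exact WeakAss.mem_annEl.2 (smul_zero r)

/-- Meromorphic functions on an affine open are fractions when the weakly associated points are finite in number. -/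
theorem isLocalization_kmod
    (U : X.affineOpens)
    (hfin : {y : X | y ∈ (U : X.Opens) ∧ Curv2.IsWeakAssPoint (Coh.structureModule X) y}.Finite) :
    @IsLocalization Γ(X, U.1) _ (nonZeroDivisors Γ(X, U.1)) Γ(Mero.kmod X, U.1) _ (Mero.toK X U.1).toAlgebra := by
  letI := (Mero.toK X U.1).toAlgebra
  have hreg := MeroX.regSub_eq_nonZeroDivisors (X := X) U.2
  have hmap : ∀ b : Mero.regSub X U.1, IsUnit (Mero.toK X U.1 b.1) := fun b => by
    refine IsUnit.of_mul_eq_one ⟨fun y => LocalizedModule.mk 1 (Mero.regGerm y b), fun y => ⟨U.1, y.2, 𝟙 _, 1, b,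
      fun z => by
        show LocalizedModule.mk (1 : X.presheaf.stalk z.1) _ = _
        rw [map_one]
        rfl⟩⟩ (Subtype.ext (funext fun y => ?_))
    show algebraMap _ (Mero.KStalk X y.1) (X.presheaf.germ U.1 y.1 y.2 b.1) *
      LocalizedModule.mk 1 (Mero.regGerm y b) = 1
    rw [← Algebra.smul_def, LocalizedModule.smul'_mk, smul_eq_mul, mul_one]
    exact Mero.mk_self_eq_one (Mero.regGerm y b)
  refine { map_units := fun b => hmap ⟨b.1, hreg.ge b.2⟩, surj := fun t => ?_, exists_of_eq := fun h =>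
    ⟨1, congrArg _ (toK_injective U.1 h)⟩ }
  let P : Set X := {y | ∃ (W : X.Opens) (hW : W ≤ U.1), y ∈ W ∧ ∀ z : W,
    t.1 ⟨z.1, hW z.2⟩ ∈ (algebraMap (X.presheaf.stalk z.1) (Mero.KStalk X z.1)).range}
  have hP : IsOpen P := isOpen_iff_forall_mem_open.2 fun y ⟨W, hW, hy, h⟩ =>
    ⟨W, fun z hz => ⟨W, hW, hz, h⟩, W.2, hy⟩
  let V0 : X.Opens := ⟨P, hP⟩
  have hV0 : V0 ≤ U.1 := fun y ⟨W, hW, hy, _⟩ => hW hy
  obtain ⟨g, hg⟩ := exists_toK (kRes hV0 t) fun y => by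
    obtain ⟨W, hW, hy, h⟩ := y.2
    exact h ⟨y.1, hy⟩
  have hS : ∀ y ∈ (U : X.Opens), Curv2.IsWeakAssPoint (Coh.structureModule X) y → y ∈ V0 := fun y hy hya => by
    obtain ⟨W, hyW, i, a, b, w⟩ := t.2 ⟨y, hy⟩
    have hu : IsUnit (X.presheaf.germ W y hyW b.1) :=
      isUnit_of_weakAss hya (b.2 ⟨y, hyW⟩)
    refine ⟨X.basicOpen b.1, (X.basicOpen_le _).trans i.le, (X.mem_basicOpen b.1 y hyW).2 hu, fun z => ?_⟩
    have hzW : z.1 ∈ W := X.basicOpen_le _ z.2
    obtain ⟨v, hv⟩ := ((X.mem_basicOpen b.1 z.1 hzW).1 z.2).exists_right_inv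
    refine ⟨X.presheaf.germ W z.1 hzW a * v, ?_⟩
    refine Eq.trans ?_ (w ⟨z.1, hzW⟩).symm
    rw [algebraMap_mul']
    refine LocalizedModule.mk_eq.2 ⟨1, ?_⟩
    simp only [one_smul, Submonoid.smul_def, smul_eq_mul]
    rw [mul_left_comm, show (Mero.regGerm ⟨z.1, hzW⟩ b).1 * v = 1 from hv, mul_one]
  obtain ⟨c, b, D, hD, hSD, hval⟩ := exists_fraction_ext U.2 hfin V0 hS g
  refine ⟨⟨c, ⟨b.1, hreg.le b.2⟩⟩, ?_⟩
  show t * Mero.toK X U.1 b.1 = Mero.toK X U.1 c
  refine kmod_ext _ _ D hSD fun y hy => ?_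
  have h1 : t.1 y = LocalizedModule.mk (X.presheaf.germ U.1 y.1 y.2 c) (Mero.regGerm y b) :=
    ((congrArg (fun k : Γ(Mero.kmod X, V0) => k.1 ⟨y.1, (hD hy).2⟩) hg).symm).trans (hval y.1 hy).symm
  rw [Mero.kmod_mul_apply, h1, toK_val, toK_val, mul_comm, ← Algebra.smul_def, LocalizedModule.smul'_mk,
    algebraMap_mul']
  refine LocalizedModule.mk_eq.2 ⟨1, ?_⟩
  simp only [one_smul, Submonoid.smul_def, smul_eq_mul]

/-- Local finiteness of weakly associated points from finitely many components of compact opens. -/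
theorem finite_weakAss_of_compact
    (ha : ∀ x : X, Curv2.IsWeakAssPoint (Coh.structureModule X) x → ∀ y : X, y ⤳ x → y = x)
    {V : X.Opens} (hfin : (irreducibleComponents ↥(V : Scheme.{u})).Finite) :
    {y : X | y ∈ V ∧ Curv2.IsWeakAssPoint (Coh.structureModule X) y}.Finite := by
  refine Set.Finite.of_finite_image (f := fun y => closure ((Subtype.val : ↥(V : Scheme.{u}) → ↥X) ⁻¹' {y}))
    (hfin.subset ?_) ?_
  · rintro T ⟨y, ⟨hy, hya⟩, rfl⟩
    have hy1 : (Subtype.val : ↥(V : Scheme.{u}) → ↥X) ⁻¹' {y} = {(⟨y, hy⟩ : (V : Scheme.{u}))} :=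
      Set.ext fun z => ⟨fun h => Subtype.ext h, fun h => congrArg Subtype.val h⟩
    simp only [hy1]
    refine ⟨isIrreducible_singleton.closure, fun T hT hsub => ?_⟩
    have hgp := hT.isGenericPoint_genericPoint_closure
    have hspec : hT.genericPoint ⤳ (⟨y, hy⟩ : (V : Scheme.{u})) :=
      hgp.specializes (subset_closure (hsub (subset_closure rfl)))
    have heq : hT.genericPoint = (⟨y, hy⟩ : (V : Scheme.{u})) :=
      Subtype.ext (ha y hya _ (hspec.map continuous_subtype_val))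
    rw [heq] at hgp
    exact subset_closure.trans_eq hgp.def.symm
  · intro a ha' b hb' hab
    have ha1 : (Subtype.val : ↥(V : Scheme.{u}) → ↥X) ⁻¹' {a} = {(⟨a, ha'.1⟩ : (V : Scheme.{u}))} :=
      Set.ext fun z => ⟨fun h => Subtype.ext h, fun h => congrArg Subtype.val h⟩
    have hb1 : (Subtype.val : ↥(V : Scheme.{u}) → ↥X) ⁻¹' {b} = {(⟨b, hb'.1⟩ : (V : Scheme.{u}))} :=
      Set.ext fun z => ⟨fun h => Subtype.ext h, fun h => congrArg Subtype.val h⟩
    simp only [ha1, hb1] at hab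
    exact congrArg Subtype.val (IsGenericPoint.eq (S := closure {(⟨a, ha'.1⟩ : (V : Scheme.{u}))}) rfl (Eq.symm hab))

end Groth.Agent.DivX
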