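import Groth.Agent.DivX.MeroMod
import Groth.Agent.InvX.GenLocusPull

/-!
# Regular meromorphic sections of invertible modules and divisors
-/

set_option backward.isDefEq.respectTransparency false
set_option backward.isDefEq.respectTransparency.types false
set_option linter.style.haveILetI false

universe u

open CategoryTheory AlgebraicGeometry TopologicalSpace Opposite

namespace Groth.Agent.DivX

open Groth.Agent Groth.Agent.InvX

variable {X : Scheme.{u}} {L : X.Modules}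

/-- The value of a section at a point, as a meromorphic value. -/
noncomputable abbrev mval {U : X.Opens} (e : Γ(L, U)) (y : U) : Mero.MStalk L y.1 :=
  LocalizedModule.mk (L.presheaf.germ U y.1 y.2 e) 1

theorem algebraMap_mul' (x : X) (r : X.presheaf.stalk x) :
    algebraMap (X.presheaf.stalk x) (Mero.KStalk X x) r = Localization.mk r 1 :=
  (Localization.mk_one_eq_algebraMap r).symm

theorem algebraMap_smul_mk (x : X) (r : X.presheaf.stalk x) (m : L.presheaf.stalk x) :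
    algebraMap (X.presheaf.stalk x) (Mero.KStalk X x) r • (LocalizedModule.mk m 1 : Mero.MStalk L x) =
      LocalizedModule.mk (r • m) 1 := by
  rw [algebraMap_mul', LocalizedModule.mk_smul_mk, mul_one]

/-- A frame is a basis of the meromorphic values. -/
theorem smul_mval_bijective {U : X.Opens} {e : Γ(L, U)} (he : IsFrame e) (y : U) :
    Function.Bijective fun q : Mero.KStalk X y.1 => q • mval e y := by
  have hb := he.germ_bijective y.2
  constructor
  · intro q q' h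
    induction q using Localization.induction_on with | H p =>
    induction q' using Localization.induction_on with | H p' =>
    obtain ⟨c, b⟩ := p
    obtain ⟨c', b'⟩ := p'
    dsimp only at h
    rw [LocalizedModule.mk_smul_mk, LocalizedModule.mk_smul_mk, LocalizedModule.mk_eq] at h
    obtain ⟨t, ht⟩ := h
    simp only [mul_one, Submonoid.smul_def, ← mul_smul] at ht
    rw [Localization.mk_eq_mk_iff, Localization.r_iff_exists]
    exact ⟨t, hb.1 ht⟩
  · intro m
    induction m using LocalizedModule.induction_on with | h n b =>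
    obtain ⟨c, hc⟩ := hb.2 n
    refine ⟨Localization.mk c b, ?_⟩
    dsimp only at hc ⊢
    rw [LocalizedModule.mk_smul_mk, mul_one, hc]

theorem smul_mval_res {U W : X.Opens} (h : W ≤ U) (r : Γ(X, W)) (e : Γ(L, U)) (y : W) :
    mval (r • AModX.res L h e) y =
      algebraMap (X.presheaf.stalk y.1) (Mero.KStalk X y.1) (X.presheaf.germ W y.1 y.2 r) • mval e ⟨y.1, h y.2⟩ := by
  rw [algebraMap_smul_mk]
  refine Mero.mk_congr ?_ rfl
  rw [QCoh.germ_smul', germ_res']

/-- The coefficient of a meromorphic section in a frame. -/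
theorem exists_coeff {U : X.Opens} {e : Γ(L, U)} (he : IsFrame e) (s : ∀ y : U, Mero.MStalk L y.1)
    (hs : (Mero.mLoc L).pred s) :
    ∃ f : Γ(Mero.kmod X, U), ∀ y : U, s y = f.1 y • mval e y := by
  choose f hf using fun y => (smul_mval_bijective he y).2 (s y)
  refine ⟨⟨f, fun y => ?_⟩, fun y => (hf y).symm⟩
  obtain ⟨V, hyV, i, m, b, w⟩ := hs y
  obtain ⟨r, hr⟩ := he.exists_coord i.le m
  refine ⟨V, hyV, i, r, b, fun z => (smul_mval_bijective he ⟨z.1, i.le z.2⟩).1 ?_⟩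
  refine (hf _).trans ((w z).trans ?_)
  show _ = Localization.mk (X.presheaf.germ V z.1 z.2 r) (Mero.regGerm z b) • mval e ⟨z.1, i.le z.2⟩
  rw [LocalizedModule.mk_smul_mk, mul_one]
  refine Mero.mk_congr ?_ rfl
  rw [hr, QCoh.germ_smul', germ_res']

theorem isUnit_coeff {U : X.Opens} {e : Γ(L, U)} {f : Γ(Mero.kmod X, U)} {s : ∀ y : U, Mero.MStalk L y.1}
    (hf : ∀ y : U, s y = f.1 y • mval e y)
    (h : ∀ (y : U) (q : Mero.KStalk X y.1), q • s y = 0 → q = 0) : IsUnit f := by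
  refine isUnit_of_smul_injective f fun V hV r hr => ?_
  refine TopCat.Presheaf.section_ext X.sheaf _ _ _ fun z hz => ?_
  show X.presheaf.germ V z hz r = X.presheaf.germ V z hz 0
  rw [map_zero]
  refine Mero.algebraMap_KStalk_injective z ((h ⟨z, hV hz⟩ _ ?_).trans (map_zero _).symm)
  rw [hf, ← mul_smul]
  have h1 := congrArg (fun t : Γ(Mero.kmod X, V) => t.1 ⟨z, hz⟩) hr
  simp only [smul_val, kRes_apply] at h1
  refine (congrArg (· • _) (h1.trans ?_)).trans (zero_smul _ _)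
  rfl

/-- A regular meromorphic section from compatible local data. -/
theorem hasRegularMero_of_local (U : X → X.Opens) (hxU : ∀ x, x ∈ U x) (e : ∀ x, Γ(L, U x))
    (he : ∀ x, IsFrame (e x)) (f : ∀ x, (Γ(Mero.kmod X, U x))ˣ)
    (hc : ∀ (x x' y : X) (hy : y ∈ U x) (hy' : y ∈ U x'),
      (f x : Γ(Mero.kmod X, U x)).1 ⟨y, hy⟩ • mval (e x) ⟨y, hy⟩ =
        (f x' : Γ(Mero.kmod X, U x')).1 ⟨y, hy'⟩ • mval (e x') ⟨y, hy'⟩) :
    Mero.HasRegularMero L := by
  let s : ∀ y : (⊤ : X.Opens), Mero.MStalk L y.1 := fun y =>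
    (f y.1 : Γ(Mero.kmod X, U y.1)).1 ⟨y.1, hxU y.1⟩ • mval (e y.1) ⟨y.1, hxU y.1⟩
  refine ⟨⟨s, fun y => ?_⟩, fun x q hq => ?_⟩
  · obtain ⟨W, hyW, i, a, b, w⟩ := (f y.1 : Γ(Mero.kmod X, U y.1)).2 ⟨y.1, hxU y.1⟩
    refine ⟨W, hyW, homOfLE le_top, a • AModX.res L i.le (e y.1), b, fun z => ?_⟩
    refine (hc z.1 y.1 z.1 (hxU z.1) (i.le z.2)).trans ?_
    refine (congrArg (· • _) (w z)).trans ?_
    show Localization.mk (X.presheaf.germ W z.1 z.2 a) (Mero.regGerm z b) • _ = _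
    rw [LocalizedModule.mk_smul_mk, mul_one]
    refine Mero.mk_congr ?_ rfl
    rw [QCoh.germ_smul', germ_res']
  · have h1 : (q * (f x : Γ(Mero.kmod X, U x)).1 ⟨x, hxU x⟩) • mval (e x) ⟨x, hxU x⟩ = 0 := (mul_smul _ _ _).trans hq
    have h2 := (smul_mval_bijective (he x) ⟨x, hxU x⟩).1 (h1.trans (zero_smul _ _).symm)
    exact ((f x).isUnit.map (Mero.evalK X (U x) ⟨x, hxU x⟩)).mul_left_eq_zero.1 h2

/-- An invertible module with a regular meromorphic section is `O(D)`. -/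
theorem exists_iso_divMod (hL : PicF.IsInvertible L) (hreg : Mero.HasRegularMero L) :
    ∃ D : Mero.Divisor X, Nonempty (L ≅ Mero.divMod D) := by
  classical
  obtain ⟨s, hs⟩ := hreg
  choose U hxU e he using fun x => exists_frame hL x
  have hex : ∀ x, ∃ f : (Γ(Mero.kmod X, U x))ˣ, ∀ y : U x,
      s.1 ⟨y.1, Opens.mem_top y.1⟩ = (f : Γ(Mero.kmod X, U x)).1 y • mval (e x) y := fun x => by
    obtain ⟨f, hf⟩ := exists_coeff (he x) (fun y => s.1 ⟨y.1, Opens.mem_top y.1⟩)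
      ((Mero.mLoc L).res (homOfLE le_top) _ s.2)
    exact ⟨(isUnit_coeff hf fun y q h => hs y.1 q h).unit, hf⟩
  choose f hf using hex
  have key : ∀ (x y : X) (hy : y ∈ U x), Mero.germOf (f x) ⟨y, hy⟩ = Mero.germOf (f y) ⟨y, hxU y⟩ := by
    intro x y hy
    obtain ⟨c, hc⟩ := ((he y).germ_bijective (hxU y)).2 (L.presheaf.germ (U x) y hy (e x))
    obtain ⟨c', hc'⟩ := ((he x).germ_bijective hy).2 (L.presheaf.germ (U y) y (hxU y) (e y))
    have hu : IsUnit c := by
      refine IsUnit.of_mul_eq_one c' (((he y).germ_bijective (hxU y)).1 ?_)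
      dsimp only at hc hc' ⊢
      rw [mul_comm, mul_smul, hc, hc', one_smul]
    refine QuotientGroup.eq.2 ⟨hu.unit, ?_⟩
    rw [eq_inv_mul_iff_mul_eq]
    refine Units.ext ((smul_mval_bijective (he y) ⟨y, hxU y⟩).1 ?_)
    show ((f x : Γ(Mero.kmod X, U x)).1 ⟨y, hy⟩ * algebraMap (X.presheaf.stalk y) (Mero.KStalk X y) c) • _ =
      (f y : Γ(Mero.kmod X, U y)).1 ⟨y, hxU y⟩ • _
    rw [← hf y ⟨y, hxU y⟩, hf x ⟨y, hy⟩, mul_smul, algebraMap_smul_mk]
    exact congrArg (_ • ·) (Mero.mk_congr hc rfl)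
  let D : Mero.Divisor X := ⟨fun x => Mero.germOf (f x) ⟨x, hxU x⟩,
    fun x => ⟨U x, hxU x, f x, fun y => (key x y.1 y.2).symm⟩⟩
  have hD : ∀ (x : X) (y : U x), D.1 y.1 = Mero.germOf (f x) y := fun x y => (key x y.1 y.2).symm
  have hσ : ∀ y : X, Function.Bijective fun q : Mero.KStalk X y => q • s.1 ⟨y, Opens.mem_top y⟩ := fun y => by
    have h1 := (smul_mval_bijective (he y) ⟨y, hxU y⟩).comp
      (Units.mulRight (Units.map (Mero.evalK X (U y) ⟨y, hxU y⟩).toMonoidHom (f y))).bijective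
    refine (congrArg Function.Bijective (funext fun q => ?_)).mp h1
    show (q * _) • _ = q • _
    rw [mul_smul, hf y ⟨y, hxU y⟩]
    rfl
  let ψ : ∀ y : X, Mero.MStalk L y → Mero.KStalk X y := fun y => Function.surjInv (hσ y).2
  have hψ : ∀ (y : X) (a : Mero.MStalk L y), ψ y a • s.1 ⟨y, Opens.mem_top y⟩ = a := fun y a =>
    Function.surjInv_eq (hσ y).2 a
  have hψ' : ∀ (y : X) (a : Mero.MStalk L y) (q : Mero.KStalk X y), q • s.1 ⟨y, Opens.mem_top y⟩ = a → ψ y a = q :=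
    fun y a q h => (hσ y).1 ((hψ y a).trans h.symm)
  have hkval : ∀ (x : X) (W : X.Opens) (hW : W ≤ U x) (r : Γ(X, W)) (z : W),
      ψ z.1 (mval (r • AModX.res L hW (e x)) z) = (r • kRes hW ((f x)⁻¹ : (Γ(Mero.kmod X, U x))ˣ).val).1 z := by
    intro x W hW r z
    refine hψ' _ _ _ ?_
    rw [smul_val, kRes_apply, hf x ⟨z.1, hW z.2⟩, ← mul_smul, mul_assoc, unit_val_mul (f x), mul_one,
      smul_mval_res]
  have hpred : ∀ (V : X.Opens) (m : Γ(L, V)),
      (Mero.kLoc X).pred (fun y : V => ψ y.1 (mval m y)) := fun V m y => by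
    let W : X.Opens := V ⊓ U y.1
    obtain ⟨r, hr⟩ := (he y.1).exists_coord (inf_le_right : W ≤ U y.1) (AModX.res L (inf_le_left : W ≤ V) m)
    obtain ⟨W', hyW', i, a, b, w⟩ :=
      (r • kRes (inf_le_right : W ≤ U y.1) ((f y.1)⁻¹ : (Γ(Mero.kmod X, U y.1))ˣ).val).2 ⟨y.1, y.2, hxU y.1⟩
    refine ⟨W', hyW', i ≫ homOfLE inf_le_left, a, b, fun z => ?_⟩
    refine Eq.trans ?_ ((hkval y.1 W inf_le_right r ⟨z.1, i.le z.2⟩).trans (w z))
    rw [← hr]
    exact congrArg (ψ z.1) (Mero.mk_congr (germ_res' inf_le_left (i.le z.2) m).symm rfl)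
  have hdiv : ∀ (V : X.Opens) (m : Γ(L, V)) (y : V), Mero.DivCond D y.1 (ψ y.1 (mval m y)) := fun V m y => by
    obtain ⟨c, hc⟩ := ((he y.1).germ_bijective (hxU y.1)).2 (L.presheaf.germ V y.1 y.2 m)
    refine divCond_of_rep (g := Units.map (Mero.evalK X (U y.1) ⟨y.1, hxU y.1⟩).toMonoidHom (f y.1)) rfl
      ⟨c, ?_⟩
    refine (smul_mval_bijective (he y.1) ⟨y.1, hxU y.1⟩).1 ?_
    dsimp only at hc ⊢
    rw [mul_smul]
    show _ = ψ y.1 _ • ((f y.1 : Γ(Mero.kmod X, U y.1)).1 ⟨y.1, hxU y.1⟩ • _)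
    rw [← hf y.1 ⟨y.1, hxU y.1⟩, hψ, algebraMap_smul_mk]
    exact Mero.mk_congr hc rfl
  let φ : L ⟶ Mero.divMod D :=
    ⟨PresheafOfModules.homMk (M₁ := L.val) (M₂ := (Mero.divMod D).val)
      { app := fun V => AddCommGrpCat.ofHom
          { toFun := fun (m : Γ(L, V.unop)) => (mkDiv D ⟨_, hpred V.unop m⟩ (hdiv V.unop m) : Γ(Mero.divMod D, V.unop))
            map_zero' := Subtype.ext <| funext fun y => hψ' _ _ _ (by
              show (0 : Mero.KStalk X y.1) • _ = mval (0 : Γ(L, V.unop)) y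
              rw [zero_smul, mval, map_zero, LocalizedModule.zero_mk])
            map_add' := fun m m' => Subtype.ext <| funext fun y => hψ' _ _ _ (by
              show (ψ y.1 (mval m y) + ψ y.1 (mval m' y)) • _ = mval (m + m') y
              rw [add_smul, hψ, hψ, mval, mval, mval, map_add, LocalizedModule.mk_add_mk, one_smul, one_smul,
                one_mul]) }
        naturality := fun {V V'} i => by
          ext m
          exact Subtype.ext <| funext fun y =>
            congrArg (ψ y.1) (Mero.mk_congr (TopCat.Presheaf.germ_res_apply' L.presheaf i y.1 y.2 m) rfl) }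
      (fun V r m => Subtype.ext <| funext fun y => hψ' _ _ _ (by
        show (X.presheaf.germ V.unop y.1 y.2 r • ψ y.1 (mval m y)) • s.1 ⟨y.1, Opens.mem_top y.1⟩ = mval (r • m) y
        rw [Algebra.smul_def, mul_smul, hψ, algebraMap_smul_mk]
        exact Mero.mk_congr (QCoh.germ_smul' L y.2 r m).symm rfl))⟩
  haveI : IsIso φ := isIso_of_frames φ fun x => ⟨U x, hxU x, e x, he x, by
    have heq : φ.app (U x) (e x) = gen (f x) (hD x) := Subtype.ext <| funext fun y => hψ' _ _ _ (by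
      show (((f x)⁻¹ : (Γ(Mero.kmod X, U x))ˣ) : Γ(Mero.kmod X, U x)).1 y • s.1 ⟨y.1, Opens.mem_top y.1⟩ = mval (e x) y
      rw [hf x y, ← mul_smul, unit_val_mul (f x) y, one_smul])
    rw [heq]
    exact isFrame_gen _ _⟩
  exact ⟨D, ⟨asIso φ⟩⟩

/-- A module isomorphic to `O(D)` has a regular meromorphic section. -/
theorem hasRegularMero_of_iso {D : Mero.Divisor X} (φ : L ≅ Mero.divMod D) : Mero.HasRegularMero L := by
  choose U hxU f hD using fun x => D.2 x
  let e : ∀ x, Γ(L, U x) := fun x => φ.inv.app (U x) (gen (f x) (hD x))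
  refine hasRegularMero_of_local U hxU e (fun x => (isFrame_gen (f x) (hD x)).map_iso φ.symm) f
    fun x x' y hy hy' => ?_
  let W : X.Opens := U x ⊓ U x'
  obtain ⟨r, hr⟩ := (isFrame_gen (f x) (hD x)).exists_coord (inf_le_left : W ≤ U x)
    (AModX.res (Mero.divMod D) (inf_le_right : W ≤ U x') (gen (f x') (hD x')))
  have h1 := congrArg (fun t : Γ(Mero.divMod D, W) => t.1 ⟨y, hy, hy'⟩) hr
  have h2 : (((f x')⁻¹ : (Γ(Mero.kmod X, U x'))ˣ) : Γ(Mero.kmod X, U x')).1 ⟨y, hy'⟩ =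
      algebraMap (X.presheaf.stalk y) (Mero.KStalk X y) (X.presheaf.germ W y ⟨hy, hy'⟩ r) *
        (((f x)⁻¹ : (Γ(Mero.kmod X, U x))ˣ) : Γ(Mero.kmod X, U x)).1 ⟨y, hy⟩ := by
    refine h1.trans ?_
    rw [← Algebra.smul_def]
    rfl
  have h3 : (f x : Γ(Mero.kmod X, U x)).1 ⟨y, hy⟩ = (f x' : Γ(Mero.kmod X, U x')).1 ⟨y, hy'⟩ *
      algebraMap (X.presheaf.stalk y) (Mero.KStalk X y) (X.presheaf.germ W y ⟨hy, hy'⟩ r) := by
    have ha := unit_val_mul (f x) ⟨y, hy⟩
    have hb := unit_val_mul (f x') ⟨y, hy'⟩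
    rw [h2] at hb
    linear_combination ((f x' : Γ(Mero.kmod X, U x')).1 ⟨y, hy'⟩ *
      algebraMap (X.presheaf.stalk y) (Mero.KStalk X y) (X.presheaf.germ W y ⟨hy, hy'⟩ r)) * ha -
      (f x : Γ(Mero.kmod X, U x)).1 ⟨y, hy⟩ * hb
  have h4 : AModX.res L (inf_le_right : W ≤ U x') (e x') = r • AModX.res L (inf_le_left : W ≤ U x) (e x) := by
    show AModX.res L _ (φ.inv.app (U x') _) = r • AModX.res L _ (φ.inv.app (U x) _)
    rw [← AModX.app_res, hr, Scheme.Modules.Hom.app_smul, AModX.app_res]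
  have h5 : mval (e x') ⟨y, hy'⟩ = algebraMap (X.presheaf.stalk y) (Mero.KStalk X y)
      (X.presheaf.germ W y ⟨hy, hy'⟩ r) • mval (e x) ⟨y, hy⟩ := by
    rw [← smul_mval_res (inf_le_left : W ≤ U x) r (e x) ⟨y, hy, hy'⟩, ← h4]
    exact Mero.mk_congr (germ_res' (inf_le_right : W ≤ U x') (show y ∈ W from ⟨hy, hy'⟩) (e x')).symm rfl
  rw [h5, ← mul_smul, ← h3]

end Groth.Agent.DivX
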