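import Groth.Agent.DivX.RegMero
import Groth.Agent.AssPtX.Noeth
import Groth.Agent.MeroX.Basic
import Groth.Agent.QCoh.DevissageP
import Groth.Agent.ZeroSchX.Basic

/-!
# Existence of regular meromorphic sections
-/

set_option backward.isDefEq.respectTransparency false
set_option backward.isDefEq.respectTransparency.types false
set_option linter.style.haveILetI false

universe u

open CategoryTheory AlgebraicGeometry TopologicalSpace Opposite

namespace Groth.Agent.DivX

open Groth.Agent Groth.Agent.InvX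

variable {X : Scheme.{u}} {L : X.Modules}

theorem eq_zero_of_res {V Z : X.Opens} (hZV : Z ≤ V)
    (hZ : ∀ y ∈ V, Curv2.IsWeakAssPoint (Coh.structureModule X) y → y ∈ Z) {r : Γ(X, V)}
    (h : X.presheaf.map (homOfLE hZV).op r = 0) : r = 0 :=
  AssPtX.restrict_injective (F := Coh.structureModule X) QCoh.isQCoh_structureModule hZV hZ
    (h.trans (map_zero (X.presheaf.map (homOfLE hZV).op).hom).symm)

/-- A meromorphic function vanishing at the weakly associated points is zero. -/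
theorem kmod_eq_zero {U : X.Opens} (t : Γ(Mero.kmod X, U)) (Z : X.Opens)
    (hZ : ∀ y ∈ U, Curv2.IsWeakAssPoint (Coh.structureModule X) y → y ∈ Z)
    (h : ∀ y : U, y.1 ∈ Z → t.1 y = 0) (y : U) : t.1 y = 0 := by
  obtain ⟨W, hyW, i, a, b, w⟩ := t.2 y
  have ha : a = 0 := by
    refine eq_zero_of_res (inf_le_left : W ⊓ Z ≤ W) (fun z hz hza => ⟨hz, hZ z (i.le hz) hza⟩) ?_
    refine TopCat.Presheaf.section_ext X.sheaf _ _ _ fun z hz => ?_
    show X.presheaf.germ (W ⊓ Z) z hz (X.presheaf.map (homOfLE inf_le_left).op a) =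
      X.presheaf.germ (W ⊓ Z) z hz 0
    rw [map_zero, X.presheaf.germ_res_apply]
    obtain ⟨c, hc⟩ := LocalizedModule.mk_eq.1
      (((w ⟨z, hz.1⟩).symm.trans (h ⟨z, i.le hz.1⟩ hz.2)).trans
        (LocalizedModule.zero_mk (S := Mero.regStalk X z) (M := X.presheaf.stalk z) 1).symm)
    simp only [one_smul, smul_zero, Submonoid.smul_def, smul_eq_mul] at hc
    exact mem_nonZeroDivisors_iff_right.1 (Mero.regStalk_le_nonZeroDivisors z c.2) _ ((mul_comm _ _).trans hc)
  refine (w ⟨y.1, hyW⟩).trans ?_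
  rw [ha, map_zero, LocalizedModule.zero_mk]

/-- A frame near all weakly associated points gives a regular meromorphic section. -/
theorem hasRegularMero_of_frame (hL : PicF.IsInvertible L) (U0 : X.Opens) (m : Γ(L, U0)) (hm : IsFrame m)
    (hU0 : ∀ y, Curv2.IsWeakAssPoint (Coh.structureModule X) y → y ∈ U0)
    (hfin : ∀ x : X, ∃ V : X.Opens, x ∈ V ∧
      {y : X | y ∈ V ∧ Curv2.IsWeakAssPoint (Coh.structureModule X) y}.Finite) :
    Mero.HasRegularMero L := by
  classical
  have main : ∀ x : X, ∃ (U : X.Opens) (_ : x ∈ U) (e : Γ(L, U)) (_ : IsFrame e) (f : (Γ(Mero.kmod X, U))ˣ)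
      (D : X.Opens) (hD : D ≤ U ⊓ U0),
      (∀ y ∈ U, Curv2.IsWeakAssPoint (Coh.structureModule X) y → y ∈ D) ∧
      ∀ (y : X) (hy : y ∈ D), (f : Γ(Mero.kmod X, U)).1 ⟨y, (hD hy).1⟩ • mval e ⟨y, (hD hy).1⟩ =
        mval m ⟨y, (hD hy).2⟩ := by
    intro x
    obtain ⟨W, hxW, e₀, he₀⟩ := exists_frame hL x
    obtain ⟨V, hxV, hVfin⟩ := hfin x
    obtain ⟨U, hU, hxU, hUWV⟩ := exists_isAffineOpen_mem_and_subset (x := x) (U := W ⊓ V) ⟨hxW, hxV⟩
    have hUW : U ≤ W := fun z hz => (hUWV hz).1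
    have hUV : U ≤ V := fun z hz => (hUWV hz).2
    let e := AModX.res L hUW e₀
    have he : IsFrame e := he₀.res hUW
    let S := {y : X | y ∈ U ∧ Curv2.IsWeakAssPoint (Coh.structureModule X) y}
    have hSfin : S.Finite := hVfin.subset fun z hz => ⟨hUV hz.1, hz.2⟩
    haveI : Finite S := hSfin
    haveI : Fintype S := Fintype.ofFinite S
    let I : Ideal Γ(X, U) := ⨅ z : {z : U // z.1 ∉ U0}, (hU.primeIdealOf z.1).asIdeal
    have hI : ∀ a, a ∈ I → X.basicOpen a ≤ U0 := fun a ha z hz => by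
      by_contra hz0
      exact (QCoh.mem_basicOpen_iff_notMem hU (X.basicOpen_le a hz) a).1 hz
        (Ideal.mem_iInf.1 ha ⟨⟨z, X.basicOpen_le a hz⟩, hz0⟩)
    obtain ⟨a, haI, ha⟩ : ∃ a ∈ I, ∀ y : S, a ∉ (hU.primeIdealOf ⟨y.1, y.2.1⟩).asIdeal := by
      have hnot : ¬ ((I : Set Γ(X, U)) ⊆ ⋃ y ∈ (↑(Finset.univ : Finset S) : Set S),
          (hU.primeIdealOf ⟨(y : S).1, y.2.1⟩).asIdeal) := fun hsub => by
        rcases isEmpty_or_nonempty S with hS | ⟨⟨s₀⟩⟩
        · have := hsub (zero_mem I)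
          simp at this
        obtain ⟨y, -, hy⟩ := (Ideal.subset_union_prime s₀ s₀ fun i _ _ _ =>
          (hU.primeIdealOf ⟨i.1, i.2.1⟩).isPrime).1 hsub
        obtain ⟨c, hc, hyc⟩ := hU.exists_basicOpen_le (V := U0) ⟨y.1, hU0 y.1 y.2.2⟩ y.2.1
        refine (QCoh.mem_basicOpen_iff_notMem hU y.2.1 c).1 hyc (hy (Ideal.mem_iInf.2 fun z => ?_))
        by_contra hcz
        exact z.2 (hc ((QCoh.mem_basicOpen_iff_notMem hU z.1.2 c).2 hcz))
      obtain ⟨a, ha, ha'⟩ := Set.not_subset.1 hnot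
      exact ⟨a, ha, fun y hy => ha' (Set.mem_iUnion₂.2 ⟨y, by simp, hy⟩)⟩
    let D := X.basicOpen a
    have hDU : D ≤ U := X.basicOpen_le a
    have hD0 : D ≤ U0 := hI a haI
    have hS : ∀ y ∈ U, Curv2.IsWeakAssPoint (Coh.structureModule X) y → y ∈ D := fun y hy hya =>
      (QCoh.mem_basicOpen_iff_notMem hU hy a).2 (ha ⟨y, hy, hya⟩)
    have haD : IsUnit (X.presheaf.map (homOfLE hDU).op a) := X.toRingedSpace.isUnit_res_basicOpen a
    have hareg : a ∈ Mero.regSub X U := by
      rw [MeroX.regSub_eq_nonZeroDivisors hU, mem_nonZeroDivisors_iff_right]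
      intro z hz
      refine eq_zero_of_res hDU hS (haD.mul_left_eq_zero.1 ?_)
      rw [← map_mul, hz, map_zero]
    obtain ⟨g, hg⟩ := he.exists_coord hDU (AModX.res L hD0 m)
    obtain ⟨g', hg'⟩ := hm.exists_coord hD0 (AModX.res L hDU e)
    have hgu : IsUnit g := IsUnit.of_mul_eq_one g' (he.coord_unique hDU (by
      rw [one_smul, mul_comm, mul_smul, ← hg, ← hg']))
    haveI := hU.isLocalization_basicOpen a
    obtain ⟨⟨c, ⟨an, n, hn⟩⟩, hgc⟩ := IsLocalization.surj (Submonoid.powers a) g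
    have hgc' : g * X.presheaf.map (homOfLE hDU).op an = X.presheaf.map (homOfLE hDU).op c := hgc
    have hanreg : an ∈ Mero.regSub X U := by rw [← hn]; exact pow_mem hareg n
    let f : Γ(Mero.kmod X, U) :=
      ⟨fun y => LocalizedModule.mk (X.presheaf.germ U y.1 y.2 c) (Mero.regGerm y ⟨an, hanreg⟩),
        fun y => ⟨U, y.2, 𝟙 _, c, ⟨an, hanreg⟩, fun z => rfl⟩⟩
    have hfD : ∀ (y : X) (hy : y ∈ D), f.1 ⟨y, hDU hy⟩ =
        algebraMap (X.presheaf.stalk y) (Mero.KStalk X y) (X.presheaf.germ D y hy g) := fun y hy => by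
      rw [algebraMap_mul']
      refine LocalizedModule.mk_eq.2 ⟨1, ?_⟩
      have h1 := congrArg (X.presheaf.germ D y hy) hgc'
      rw [map_mul, X.presheaf.germ_res_apply, X.presheaf.germ_res_apply] at h1
      simp only [one_smul, Submonoid.smul_def, smul_eq_mul]
      rw [← h1, mul_comm]
    have hfu : IsUnit f := isUnit_of_smul_injective f fun V hV r hr => by
      refine eq_zero_of_res (inf_le_left : V ⊓ D ≤ V) (fun z hz hza => ⟨hz, hS z (hV hz) hza⟩) ?_
      refine TopCat.Presheaf.section_ext X.sheaf _ _ _ fun z hz => ?_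
      show X.presheaf.germ (V ⊓ D) z hz (X.presheaf.map (homOfLE inf_le_left).op r) =
        X.presheaf.germ (V ⊓ D) z hz 0
      rw [map_zero, X.presheaf.germ_res_apply]
      have h1 := congrArg (fun t : Γ(Mero.kmod X, V) => t.1 ⟨z, hz.1⟩) hr
      simp only [smul_val, kRes_apply] at h1
      rw [hfD z hz.2, ← map_mul] at h1
      refine (hgu.map (X.presheaf.germ D z hz.2).hom).mul_left_eq_zero.1
        (Mero.algebraMap_KStalk_injective z (h1.trans ?_))
      exact (map_zero _).symm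
    refine ⟨U, hxU, e, he, hfu.unit, D, le_inf hDU hD0, hS, fun y hy => ?_⟩
    show f.1 ⟨y, hDU hy⟩ • _ = _
    rw [hfD y hy, ← smul_mval_res hDU g e ⟨y, hy⟩, ← hg]
    exact Mero.mk_congr (germ_res' hD0 hy m) rfl
  choose U hxU e he f D hD hS hval using main
  refine hasRegularMero_of_local U hxU e he f fun x x' y hy hy' => ?_
  let W : X.Opens := U x ⊓ U x'
  obtain ⟨r, hr⟩ := (he x).exists_coord (inf_le_left : W ≤ U x) (AModX.res L (inf_le_right : W ≤ U x') (e x'))
  have he' : ∀ (z : X) (hz : z ∈ W), mval (e x') ⟨z, hz.2⟩ =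
      algebraMap (X.presheaf.stalk z) (Mero.KStalk X z) (X.presheaf.germ W z hz r) • mval (e x) ⟨z, hz.1⟩ := by
    intro z hz
    rw [← smul_mval_res (inf_le_left : W ≤ U x) r (e x) ⟨z, hz⟩, ← hr]
    exact Mero.mk_congr (germ_res' (inf_le_right : W ≤ U x') hz (e x')).symm rfl
  let t : Γ(Mero.kmod X, W) := kRes (inf_le_left : W ≤ U x) (f x : Γ(Mero.kmod X, U x)) -
    r • kRes (inf_le_right : W ≤ U x') (f x' : Γ(Mero.kmod X, U x'))
  have htval : ∀ (z : X) (hz : z ∈ W), t.1 ⟨z, hz⟩ = (f x : Γ(Mero.kmod X, U x)).1 ⟨z, hz.1⟩ -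
      algebraMap (X.presheaf.stalk z) (Mero.KStalk X z) (X.presheaf.germ W z hz r) *
        (f x' : Γ(Mero.kmod X, U x')).1 ⟨z, hz.2⟩ := fun z hz => by
    rw [← Algebra.smul_def, sub_eq_add_neg]
    rfl
  have ht := kmod_eq_zero t (D x ⊓ D x') (fun z hz hza => ⟨hS x z hz.1 hza, hS x' z hz.2 hza⟩) (fun z hz => by
    rw [htval z.1 z.2, sub_eq_zero]
    refine (smul_mval_bijective (he x) ⟨z.1, z.2.1⟩).1 ?_
    show (f x : Γ(Mero.kmod X, U x)).1 ⟨z.1, z.2.1⟩ • _ = (_ * _) • _
    rw [hval x z.1 hz.1, mul_comm, mul_smul, ← he' z.1 z.2]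
    exact (hval x' z.1 hz.2).symm) ⟨y, hy, hy'⟩
  rw [htval y ⟨hy, hy'⟩, sub_eq_zero] at ht
  rw [ht, he' y ⟨hy, hy'⟩, mul_comm, mul_smul]

/-- Every point has a generization which is a weakly associated point. -/
theorem exists_weakAss_specializes (x : X) :
    ∃ w, Curv2.IsWeakAssPoint (Coh.structureModule X) w ∧ w ⤳ x := by
  have hmem := irreducibleComponent_mem_irreducibleComponents x
  have hgp := hmem.1.isGenericPoint_genericPoint isClosed_irreducibleComponent
  refine ⟨hmem.1.genericPoint, AssPtX.isWeakAssPoint_of_maximal QCoh.isQCoh_structureModule ?_ ?_,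
    hgp.specializes mem_irreducibleComponent⟩
  · intro hss
    obtain ⟨V, hV, hxV, -⟩ := exists_isAffineOpen_mem_and_subset (x := hmem.1.genericPoint) (U := ⊤) trivial
    obtain ⟨g, hg, hg'⟩ := (QCoh.subsingleton_stalk_iff QCoh.isQCoh_structureModule hV hxV).1 hss
      (show Γ(Coh.structureModule X, V) from (1 : Γ(X, V)))
    have : g = 0 := (mul_one g).symm.trans hg'
    rw [this, Scheme.basicOpen_zero] at hg
    exact hg
  · intro y _ hy
    have hsub : irreducibleComponent x ⊆ closure {y} := by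
      rw [← hgp.def]
      exact closure_minimal (Set.singleton_subset_iff.2 (specializes_iff_mem_closure.1 hy)) isClosed_closure
    have hyy : IsGenericPoint y (irreducibleComponent x) :=
      (Set.Subset.antisymm hsub (hmem.2 isIrreducible_singleton.closure hsub)).symm
    exact hyy.eq hgp

/-- No embedded points and local finiteness give a regular meromorphic section. -/
theorem hasRegularMero_of_maximal (hL : PicF.IsInvertible L)
    (hmax : ∀ y z : X, Curv2.IsWeakAssPoint (Coh.structureModule X) y →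
      Curv2.IsWeakAssPoint (Coh.structureModule X) z → z ⤳ y → z = y)
    (hfin : ∀ x : X, ∃ V : X.Opens, x ∈ V ∧
      {y : X | y ∈ V ∧ Curv2.IsWeakAssPoint (Coh.structureModule X) y}.Finite) :
    Mero.HasRegularMero L := by
  classical
  let S := {y : X | Curv2.IsWeakAssPoint (Coh.structureModule X) y}
  have hnc : ∀ s : S, s.1 ∉ closure (S \ {s.1}) := fun s hs => by
    obtain ⟨N, hsN, hN⟩ := hfin s.1
    have hT : {y : X | y ∈ N ∧ Curv2.IsWeakAssPoint (Coh.structureModule X) y ∧ y ≠ s.1}.Finite :=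
      hN.subset fun y hy => ⟨hy.1, hy.2.1⟩
    have hcl : IsClosed (⋃ y ∈ {y : X | y ∈ N ∧ Curv2.IsWeakAssPoint (Coh.structureModule X) y ∧ y ≠ s.1},
        closure ({y} : Set X)) := hT.isClosed_biUnion fun _ _ => isClosed_closure
    obtain ⟨z, ⟨hzN, hz⟩, hzS, hzs⟩ := mem_closure_iff.1 hs ((N : Set X) \ _) (N.2.sdiff hcl)
      ⟨hsN, fun h => by
        obtain ⟨y, ⟨-, hya, hys⟩, hy⟩ := Set.mem_iUnion₂.1 h
        exact hys (hmax s.1 y s.2 hya (specializes_iff_mem_closure.2 hy))⟩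
    exact hz (Set.mem_biUnion ⟨hzN, hzS, hzs⟩ (subset_closure rfl))
  choose W hsW e₀ he₀ using fun s : S => exists_frame hL s.1
  let V : S → X.Opens := fun s => W s ⊓ ⟨(closure (S \ {s.1}))ᶜ, isClosed_closure.isOpen_compl⟩
  have hdisj : ∀ (s t : S) (p : X), p ∈ V s → p ∈ V t → s = t := fun s t p hps hpt => by
    obtain ⟨w, hw, hwp⟩ := exists_weakAss_specializes p
    have key : ∀ s : S, p ∈ V s → w = s.1 := fun s hps => by_contra fun hne =>
      hps.2 (closure_mono (Set.singleton_subset_iff.2 (show w ∈ S \ {s.1} from ⟨hw, hne⟩))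
        (specializes_iff_mem_closure.1 hwp))
    exact Subtype.ext ((key s hps).symm.trans (key t hpt))
  let e : ∀ s : S, Γ(L, V s) := fun s => AModX.res L inf_le_left (e₀ s)
  obtain ⟨m, hm, -⟩ := AModX.existsUnique_glue (M := L) (V := ⨆ s, V s) V (le_iSup V)
    (fun p hp => Opens.mem_iSup.1 hp) e fun s t => by
      refine AModX.eq_of_locally _ _ fun p hp => ?_
      obtain rfl := hdisj s t p hp.1 hp.2
      exact ⟨V s ⊓ V s, le_rfl, hp, rfl⟩
  refine hasRegularMero_of_frame hL (⨆ s, V s) m (isFrame_of_germ fun p hp => ?_)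
    (fun y hy => Opens.mem_iSup.2 ⟨⟨y, hy⟩, hsW _, hnc ⟨y, hy⟩⟩) hfin
  obtain ⟨s, hs⟩ := Opens.mem_iSup.1 hp
  have h1 := ((he₀ s).res (inf_le_left : V s ≤ W s)).germ_bijective hs
  change Function.Bijective fun c : X.presheaf.stalk p => c • L.presheaf.germ (V s) p hs (e s) at h1
  rw [← hm s, germ_res'] at h1
  exact h1

/-- Weakly associated points are locally finite on a locally Noetherian scheme. -/
theorem finite_weakAss_nhd [IsLocallyNoetherian X] (x : X) :
    ∃ V : X.Opens, x ∈ V ∧ {y : X | y ∈ V ∧ Curv2.IsWeakAssPoint (Coh.structureModule X) y}.Finite := by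
  obtain ⟨V, hV, hxV, -⟩ := exists_isAffineOpen_mem_and_subset (x := x) (U := ⊤) trivial
  exact ⟨V, hxV, (AssPtX.finite_assPoints QCoh.isCoh_structureModule' hV.isCompact).subset
    fun y hy => ⟨hy.1, AssPtX.isAssPoint_iff.2 hy.2⟩⟩

/-- Generators of an invertible module at finitely many points of an affine open. -/
theorem exists_section_gen (hL : PicF.IsInvertible L) {W : X.Opens} (hW : IsAffineOpen W) (s : Finset X)
    (hs : ∀ y ∈ s, y ∈ W) : ∃ m : Γ(L, W), ∀ (y : X) (hy : y ∈ W), y ∈ s →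
      Function.Bijective fun c : X.presheaf.stalk y => c • L.presheaf.germ W y hy m := by
  classical
  have gen : ∀ (y : X) (b : L.presheaf.stalk y) (_ : Function.Bijective fun c : X.presheaf.stalk y => c • b)
      (k : X.presheaf.stalk y), IsUnit k → Function.Bijective fun c : X.presheaf.stalk y => c • (k • b) := by
    intro y b hb k hk
    simp only [← mul_smul]
    exact hb.comp (Units.mulRight hk.unit).bijective
  induction s using Finset.strongInduction with
  | H s ih =>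
    rcases s.eq_empty_or_nonempty with rfl | hne
    · exact ⟨0, fun y _ hy => absurd hy (Finset.notMem_empty y)⟩
    let p : {y // y ∈ s} → Ideal Γ(X, W) := fun y => (hW.primeIdealOf ⟨y.1, hs y.1 y.2⟩).asIdeal
    haveI : Nonempty {y // y ∈ s} := hne.to_subtype
    obtain ⟨y₀, hy₀⟩ := (Set.toFinite (Set.univ : Set {y // y ∈ s})).exists_minimalFor p _ Set.univ_nonempty
    have hyW : y₀.1 ∈ W := hs _ y₀.2
    obtain ⟨m, hm⟩ := ih (s.erase y₀.1) (Finset.erase_ssubset y₀.2)
      fun y hy => hs y (Finset.mem_of_mem_erase hy)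
    obtain ⟨V, hyV, e, he⟩ := exists_frame hL y₀.1
    have hb := he.germ_bijective hyV
    obtain ⟨d, hd⟩ := hb.2 (L.presheaf.germ W y₀.1 hyW m)
    dsimp only at hd
    by_cases hdu : IsUnit d
    · refine ⟨m, fun y hy hys => ?_⟩
      by_cases hyy : y = y₀.1
      · subst hyy
        rw [← hd]
        exact gen _ _ hb d hdu
      · exact hm y hy (Finset.mem_erase.2 ⟨hyy, hys⟩)
    letI := QCoh.stalkAlg (X := X) hyW
    letI := QCoh.stalkModule L hyW
    haveI := QCoh.isScalarTower_stalk L hyW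
    haveI := QCoh.isLocalization_stalk' hW hyW
    haveI := QCoh.isLocalizedModule_germLin (ZeroSchX.isQCoh_inv hL) hW hyW
    obtain ⟨⟨n, u⟩, hnu⟩ := IsLocalizedModule.surj (hW.primeIdealOf ⟨y₀.1, hyW⟩).asIdeal.primeCompl
      (QCoh.germLin L hyW) (L.presheaf.germ V y₀.1 hyV e)
    have hn : L.presheaf.germ W y₀.1 hyW n =
        X.presheaf.germ W y₀.1 hyW u.1 • L.presheaf.germ V y₀.1 hyV e := hnu.symm
    obtain ⟨a, haP, ha⟩ : ∃ a : Γ(X, W), a ∉ p y₀ ∧ ∀ y : {y // y ∈ s}, y.1 ≠ y₀.1 → a ∈ p y := by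
      have hex : ∀ y : {y // y ∈ s}, y.1 ≠ y₀.1 → ∃ a ∈ p y, a ∉ p y₀ := fun y hy => by
        refine Set.not_subset.1 fun hle => hy ?_
        have h2 := hy₀.2 (Set.mem_univ y) hle
        exact (hyW |> fun _ => ((AssPtX.primeIdealOf_le_iff hW (hs _ y.2) hyW).1 hle).antisymm
          ((AssPtX.primeIdealOf_le_iff hW hyW (hs _ y.2)).1 h2) |>.eq)
      choose a ha ha' using hex
      refine ⟨∏ y : {y // y ∈ s}, if h : y.1 ≠ y₀.1 then a y h else 1, fun hmem => ?_, fun y hy => ?_⟩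
      · obtain ⟨y, -, hy⟩ := (hW.primeIdealOf ⟨y₀.1, hyW⟩).isPrime.prod_mem_iff.1 hmem
        split at hy
        · exact ha' _ _ hy
        · exact (hW.primeIdealOf ⟨y₀.1, hyW⟩).isPrime.ne_top ((Ideal.eq_top_iff_one _).2 hy)
      · refine Ideal.prod_mem _ (Finset.mem_univ y) ?_
        rw [dif_pos hy]
        exact ha y hy
    refine ⟨m + a • n, fun y hy hys => ?_⟩
    by_cases hyy : y = y₀.1
    · subst hyy
      rw [map_add, QCoh.germ_smul', hn, ← hd, smul_smul, ← add_smul]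
      refine gen _ _ hb _ ?_
      by_contra hnu'
      have hunit : IsUnit (X.presheaf.germ W y₀.1 hyW a * X.presheaf.germ W y₀.1 hyW u.1) :=
        ((X.mem_basicOpen a _ hyW).1 ((QCoh.mem_basicOpen_iff_notMem hW hyW a).2 haP)).mul
          ((X.mem_basicOpen u.1 _ hyW).1 ((QCoh.mem_basicOpen_iff_notMem hW hyW u.1).2 u.2))
      refine (IsLocalRing.notMem_maximalIdeal.2 hunit) ?_
      have := Ideal.sub_mem _ ((IsLocalRing.mem_maximalIdeal _).2 hnu') ((IsLocalRing.mem_maximalIdeal _).2 hdu)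
      rwa [add_sub_cancel_left] at this
    · have hmy := hm y hy (Finset.mem_erase.2 ⟨hyy, hys⟩)
      obtain ⟨k, hk⟩ := hmy.2 (L.presheaf.germ W y hy n)
      dsimp only at hk
      rw [map_add, QCoh.germ_smul', ← hk, smul_smul]
      conv in L.presheaf.germ W y hy m + _ => rw [← one_smul (X.presheaf.stalk y) (L.presheaf.germ W y hy m)]
      rw [smul_smul, mul_one, ← add_smul]
      refine gen _ _ hmy _ ?_
      have hau : ¬ IsUnit (X.presheaf.germ W y hy a) := fun h =>
        (QCoh.mem_basicOpen_iff_notMem hW hy a).1 ((X.mem_basicOpen a _ hy).2 h) (ha ⟨y, hys⟩ hyy)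
      exact (IsLocalRing.isUnit_or_isUnit_of_isUnit_add
        (a := 1 + X.presheaf.germ W y hy a * k) (b := -(X.presheaf.germ W y hy a * k))
        (by rw [add_neg_cancel_right]; exact isUnit_one)).resolve_right
          fun h => hau (isUnit_of_mul_isUnit_left (IsUnit.neg_iff _ |>.1 h))

/-- Associated points in an affine open give a regular meromorphic section. -/
theorem hasRegularMero_of_affine [IsLocallyNoetherian X] (hL : PicF.IsInvertible L) {W : X.Opens}
    (hW : IsAffineOpen W) (hS : ∀ y, Curv2.IsWeakAssPoint (Coh.structureModule X) y → y ∈ W) :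
    Mero.HasRegularMero L := by
  classical
  have hfin : {y : X | y ∈ W ∧ Curv2.IsAssPoint (Coh.structureModule X) y}.Finite :=
    AssPtX.finite_assPoints QCoh.isCoh_structureModule' hW.isCompact
  obtain ⟨m, hm⟩ := exists_section_gen hL hW hfin.toFinset fun y hy => (hfin.mem_toFinset.1 hy).1
  let G : Set X := {y | ∃ hy : y ∈ W, Function.Bijective fun c : X.presheaf.stalk y => c • L.presheaf.germ W y hy m}
  have hG : IsOpen G := isOpen_iff_forall_mem_open.2 fun y ⟨hy, hb⟩ => by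
    obtain ⟨V, hyV, e, he⟩ := exists_frame hL y
    obtain ⟨r, hr⟩ := he.exists_coord (inf_le_right : W ⊓ V ≤ V) (AModX.res L (inf_le_left : W ⊓ V ≤ W) m)
    have hgerm : ∀ (z : X) (hz : z ∈ W ⊓ V), L.presheaf.germ W z hz.1 m =
        X.presheaf.germ (W ⊓ V) z hz r • L.presheaf.germ V z hz.2 e := fun z hz => by
      rw [← germ_res' (inf_le_left : W ⊓ V ≤ W) hz m, hr, QCoh.germ_smul', germ_res']
    refine ⟨X.basicOpen r, fun z hz => ?_, (X.basicOpen r).2, (X.mem_basicOpen r y ⟨hy, hyV⟩).2 ?_⟩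
    · have hz' : z ∈ W ⊓ V := X.basicOpen_le r hz
      refine ⟨hz'.1, ?_⟩
      rw [hgerm z hz']
      simp only [← mul_smul]
      exact (he.germ_bijective hz'.2).comp (Units.mulRight ((X.mem_basicOpen r z hz').1 hz).unit).bijective
    · obtain ⟨k, hk⟩ := hb.2 (L.presheaf.germ V y hyV e)
      dsimp only at hk
      rw [hgerm y ⟨hy, hyV⟩, ← mul_smul] at hk
      refine IsUnit.of_mul_eq_one k ((he.germ_bijective hyV).1 ?_)
      dsimp only
      rw [mul_comm, hk, one_smul]
  have hGW : (⟨G, hG⟩ : X.Opens) ≤ W := fun y hy => hy.1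
  refine hasRegularMero_of_frame hL ⟨G, hG⟩ (AModX.res L hGW m) (isFrame_of_germ fun y hy => ?_)
    (fun y hy => ⟨hS y hy, hm y (hS y hy) (hfin.mem_toFinset.2 ⟨hS y hy, AssPtX.isAssPoint_iff.2 hy⟩)⟩)
    finite_weakAss_nhd
  have h1 := hy.2
  rw [← germ_res' hGW hy m] at h1
  exact h1

end Groth.Agent.DivX
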